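import Groth.Agent.Lib.SymAlg11.Sheaf
import Groth.Prelude.Def_AffAlg
import Mathlib.AlgebraicGeometry.Morphisms.Flat

/-!
# Pushouts of quasi-coherent algebras are computed on affine opens
-/

set_option autoImplicit false
set_option backward.isDefEq.respectTransparency false
set_option backward.isDefEq.respectTransparency.types false
set_option backward.defeqAttrib.useBackward true

universe u

open CategoryTheory CategoryTheory.Limits AlgebraicGeometry TopologicalSpace Opposite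

noncomputable section

namespace Groth.Agent.QCAlgPushout3

open Scheme.AffineZariskiSite (toOpens toOpens_mono toOpensFunctor)

variable {S : Scheme.{u}} {P A B D : RelSpec.QCAlg S} {i₁ : P ⟶ A} {i₂ : P ⟶ B} {j₁ : A ⟶ D} {j₂ : B ⟶ D}

section

variable (hpo : ∀ U : S.AffineZariskiSite, IsPushout (i₁.hom.app (op U.1)) (i₂.hom.app (op U.1))
  (j₁.hom.app (op U.1)) (j₂.hom.app (op U.1)))
  (s : PushoutCocone i₁ i₂)

/-- The map out of a pushout, on affine opens. -/
def descAff : (toOpensFunctor S).op ⋙ D.presheaf ⟶ (toOpensFunctor S).op ⋙ s.pt.presheaf where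
  app U := (hpo U.unop).desc (s.inl.hom.app (op U.unop.1)) (s.inr.hom.app (op U.unop.1))
    (NatTrans.congr_app (congrArg RelSpec.QCAlg.Hom.hom s.condition) (op U.unop.1))
  naturality U V i := by
    refine (hpo U.unop).hom_ext ?_ ?_
    · simp only [Functor.comp_map]
      erw [← reassoc_of% (j₁.hom.naturality ((toOpensFunctor S).op.map i))]
      erw [(hpo V.unop).inl_desc, reassoc_of% ((hpo U.unop).inl_desc _ _ _)]
      exact s.inl.hom.naturality ((toOpensFunctor S).op.map i)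
    · simp only [Functor.comp_map]
      erw [← reassoc_of% (j₂.hom.naturality ((toOpensFunctor S).op.map i))]
      erw [(hpo V.unop).inr_desc, reassoc_of% ((hpo U.unop).inr_desc _ _ _)]
      exact s.inr.hom.naturality ((toOpensFunctor S).op.map i)

/-- The map out of a pushout. -/
def descPre : D.presheaf ⟶ s.pt.presheaf :=
  Functor.IsCoverDense.restrictHomEquivHom (G := toOpensFunctor S)
    (K := Opens.grothendieckTopology S) (ℱ := D.presheaf)
    (ℱ' := (⟨s.pt.presheaf, s.pt.isSheaf⟩ : TopCat.Sheaf CommRingCat.{u} S.carrier))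
    (descAff hpo s)

lemma descPre_app (U : S.Opens) (hU : IsAffineOpen U) :
    (descPre hpo s).app (op U) = (descAff hpo s).app (op ⟨U, hU⟩) := by
  have h : (toOpensFunctor S).op.whiskerLeft (descPre hpo s) = descAff hpo s :=
    (Functor.IsCoverDense.restrictHomEquivHom (G := toOpensFunctor S)
      (K := Opens.grothendieckTopology S) (ℱ := D.presheaf)
      (ℱ' := (⟨s.pt.presheaf, s.pt.isSheaf⟩ :
        TopCat.Sheaf CommRingCat.{u} S.carrier))).symm_apply_apply _
  exact NatTrans.congr_app h (op (⟨U, hU⟩ : S.AffineZariskiSite))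

include hpo in
/-- A square of quasi-coherent algebras which is a pushout on affine opens is a pushout. -/
theorem isPushout_of_forall (w : i₁ ≫ j₁ = i₂ ≫ j₂) : IsPushout i₁ i₂ j₁ j₂ := by
  have hinl : ∀ (s : PushoutCocone i₁ i₂) (U : S.Opens) (hU : IsAffineOpen U),
      j₁.hom.app (op U) ≫ (descPre hpo s).app (op U) = s.inl.hom.app (op U) := fun s U hU => by
    rw [descPre_app hpo s U hU]; exact (hpo ⟨U, hU⟩).inl_desc _ _ _
  refine ⟨⟨w⟩, ⟨PushoutCocone.IsColimit.mk w (fun s =>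
    { hom := descPre hpo s
      comm := SymAlg11.qcHom_ext (A := RelSpec.QCAlg.unit S) fun U hU => by
        rw [NatTrans.comp_app, ← j₁.comm, NatTrans.comp_app, Category.assoc]
        exact (congrArg (A.str.app (op U) ≫ ·) (hinl s U hU)).trans (NatTrans.congr_app s.inl.comm (op U)) })
    (fun s => ?_) (fun s => ?_) (fun s m h1 h2 => ?_)⟩⟩
  · exact RelSpec.QCAlg.hom_ext (SymAlg11.qcHom_ext fun U hU => hinl s U hU)
  · refine RelSpec.QCAlg.hom_ext (SymAlg11.qcHom_ext fun U hU => ?_)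
    show j₂.hom.app (op U) ≫ (descPre hpo s).app (op U) = _
    rw [descPre_app hpo s U hU]; exact (hpo ⟨U, hU⟩).inr_desc _ _ _
  · refine RelSpec.QCAlg.hom_ext (SymAlg11.qcHom_ext fun U hU => ?_)
    show _ = (descPre hpo s).app (op U)
    rw [descPre_app hpo s U hU]
    refine (hpo ⟨U, hU⟩).hom_ext ?_ ?_
    · exact (NatTrans.congr_app (congrArg RelSpec.QCAlg.Hom.hom h1) (op U)).trans
        ((hpo ⟨U, hU⟩).inl_desc _ _ _).symm
    · exact (NatTrans.congr_app (congrArg RelSpec.QCAlg.Hom.hom h2) (op U)).trans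
        ((hpo ⟨U, hU⟩).inr_desc _ _ _).symm

end

theorem algHom_app_eq_appLE {X Y : Scheme.{u}} (f : X ⟶ S) (g : Y ⟶ S) (h : Y ⟶ X) (w : h ≫ f = g)
    (U : S.Opens) :
    (AffAlg.algHom f g h w).app (op U) = h.appLE (f ⁻¹ᵁ U) (g ⁻¹ᵁ U) (by subst w; rfl) := by
  subst w
  simp [AffAlg.algHom, Scheme.Hom.appLE]

/-- The direct image algebra of a fibre product of affine schemes over the base is a tensor product. -/
theorem isPushout_directImage {X X' Y Z : Scheme.{u}} (g : Y ⟶ S) [IsAffineHom g]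
    (f : X ⟶ Y) [IsAffineHom f] (f' : X' ⟶ Y) [IsAffineHom f'] (p : Z ⟶ X) (p' : Z ⟶ X') [IsAffineHom p]
    (hZ : IsPullback p p' f f') :
    IsPushout
      (C := RelSpec.QCAlg S)
      (⟨AffAlg.algHom g (f ≫ g) f rfl, AffAlg.algHom_comm g (f ≫ g) f rfl⟩ :
        RelSpec.QCAlg.directImage g ⟶ RelSpec.QCAlg.directImage (f ≫ g))
      (⟨AffAlg.algHom g (f' ≫ g) f' rfl, AffAlg.algHom_comm g (f' ≫ g) f' rfl⟩ :
        RelSpec.QCAlg.directImage g ⟶ RelSpec.QCAlg.directImage (f' ≫ g))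
      (⟨AffAlg.algHom (f ≫ g) (p ≫ f ≫ g) p rfl, AffAlg.algHom_comm (f ≫ g) (p ≫ f ≫ g) p rfl⟩ :
        RelSpec.QCAlg.directImage (f ≫ g) ⟶ RelSpec.QCAlg.directImage (p ≫ f ≫ g))
      (⟨AffAlg.algHom (f' ≫ g) (p ≫ f ≫ g) p'
          ((Category.assoc p' f' g).symm.trans ((congrArg (· ≫ g) hZ.w.symm).trans (Category.assoc p f g))),
        AffAlg.algHom_comm (f' ≫ g) (p ≫ f ≫ g) p'
          ((Category.assoc p' f' g).symm.trans ((congrArg (· ≫ g) hZ.w.symm).trans (Category.assoc p f g)))⟩ :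
        RelSpec.QCAlg.directImage (f' ≫ g) ⟶ RelSpec.QCAlg.directImage (p ≫ f ≫ g)) := by
  have hkey : ∀ U : S.AffineZariskiSite, IsPushout
      ((AffAlg.algHom g (f ≫ g) f rfl).app (op U.1)) ((AffAlg.algHom g (f' ≫ g) f' rfl).app (op U.1))
      ((AffAlg.algHom (f ≫ g) (p ≫ f ≫ g) p rfl).app (op U.1))
      ((AffAlg.algHom (f' ≫ g) (p ≫ f ≫ g) p'
        ((Category.assoc p' f' g).symm.trans ((congrArg (· ≫ g) hZ.w.symm).trans (Category.assoc p f g)))).app
          (op U.1)) := fun U => by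
    rw [algHom_app_eq_appLE, algHom_app_eq_appLE, algHom_app_eq_appLE, algHom_app_eq_appLE]
    have hUY : (p ≫ f ≫ g) ⁻¹ᵁ U.1 = p ⁻¹ᵁ ((f ≫ g) ⁻¹ᵁ U.1) ⊓ p' ⁻¹ᵁ ((f' ≫ g) ⁻¹ᵁ U.1) := by
      rw [← Scheme.Hom.comp_preimage, ← Scheme.Hom.comp_preimage, ← reassoc_of% hZ.w, inf_idem]
    exact (isIso_pushoutSection_iff hZ le_rfl le_rfl hUY).1
      (isIso_pushoutSection_of_isAffineOpen hZ le_rfl le_rfl hUY (U.2.preimage g)
        (U.2.preimage (f' ≫ g)) (U.2.preimage (f ≫ g)))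
  refine isPushout_of_forall hkey (RelSpec.QCAlg.hom_ext (SymAlg11.qcHom_ext fun U hU => ?_))
  exact (hkey ⟨U, hU⟩).w

end Groth.Agent.QCAlgPushout3
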